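import Cfsg.Agent.Lib.Comp.J4e.Ord

set_option maxRecDepth 100000
set_option Elab.async false

namespace Cfsg.Lib.Comp.J4m

universe u

abbrev iv := J4.iv

noncomputable def R : List (List ℕ × ℕ) := [([1],1),
 ([2],2),
 ([1,2],22),
 ([1,3,1,2],11),
 ([1,3,1,3,1,2,1,2],4),
 ([1,2,1,2,1,3,1,2,1,3,1,2,1,3],3),
 ([1,2,1,2,1,3,1,2,1,2,1,3,1,2,1,2,1,3,1,2,1,3,1,3,1,2,1,3,1,3,1,2,1,3,1,3],0),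
 ([2,3],0),
 ([4],1),
 ([4,2,4,3],0),
 ([4,1,2,1,3,1,2,1,2,1,2,1,2,1,3,1,2,1,2,1,2,1,2,1,3,1,2,1,3,1,4,1,2,1,3,1,2,1,3,1,3,1,3,1,3,1,2,1,3,1,3,1,3,1,3,1,2,1,3,1],0),
 ((apd [4,1,2,1,2,1,3,1,3,1,4,1,2,1,2,1,3,1,3,1,2,1,2,1,3,1,2,1,3,1,2,1,2,1,2,1,3,1,2,1,3,1,4,1,2,1,3,1,2,1,3,1,3,1,3,1,2,1,3,1]
 [2,1,3,1,3]),0)]

abbrev L : List ℕ := J4.L

def zw : List ℕ := [2,1,2,1,3,1,3,1,3,1,3,4,2,1,2,1,2,1,2,1,3,1,2,1,2,1,3,1,3,1,3,1,3,4,2,1,2,1,2,1,2,1,3,1,2,1,2,1,3,1,3,1,3,1,3,4,2,1,2,1,2,1,2,1,3,1]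

end Cfsg.Lib.Comp.J4m
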